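import Groth.Agent.CohCmpLib.EulerFibre
import Groth.Agent.HilbPolyLib.Basic
import Groth.Agent.PnCohLib.FlatTensor
import Groth.Agent.ConsLib.ModLoci
import Groth.Agent.RichLib.IsFPAffine
import Groth.Agent.RichLib.ModFlatGlobal
import Groth.Agent.FibDimLib.ClosureDim
import Groth.Agent.UOpenLib.FibreDim
import Groth.Agent.KFlatLib.PullTensor
import Groth.Agent.MiscFlat6.TensorGG
import Groth.Agent.AmpleDevLib.Pull
import Mathlib.Combinatorics.Nullstellensatz

/-!
# Euler characteristics of twists of a flat family form a locally constant family of polynomials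
-/

set_option autoImplicit false
set_option linter.style.haveILetI false
set_option maxHeartbeats 1000000
universe u

open CategoryTheory CategoryTheory.Limits AlgebraicGeometry TopologicalSpace Opposite

noncomputable section

namespace HilbLCLib

open HilbPolyLib
open scoped TensorProduct

variable {X S : Scheme.{u}}

theorem isFP_tensor {A M : X.Modules} [Coh.IsQCoh A] (hA : CohB1.IsFP A) (hM : PicF.IsInvertible M) :
    CohB1.IsFP (CohB1.tensorMod A M) := by
  haveI : Coh.IsQCoh (CohB1.tensorMod A M) := MiscFlat6.isQCoh_tensor hM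
  refine RichLib.IsFPAffine.isFP_of_finitePresentation _ fun x => ?_
  obtain ⟨U, hx, ⟨i⟩⟩ := hM x
  obtain ⟨W, hW, hWU, hxW, hfp⟩ := FlatLib.exists_finitePresentation_nhd hA hx
  refine ⟨W, hW, hxW, ?_⟩
  let e := (SerreVanLib.nonempty_restrict_tensor_iso A i).some
  have hW' : W = U.ι ''ᵁ (U.ι ⁻¹ᵁ W) := by
    rw [Scheme.Hom.image_preimage_eq_opensRange_inf, Scheme.Opens.opensRange_ι, inf_of_le_right hWU]
  rw [hW'] at hfp ⊢
  let W' := U.ι ⁻¹ᵁ W
  haveI : Module.FinitePresentation Γ(X, U.ι ''ᵁ W') Γ(A, U.ι ''ᵁ W') := hfp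
  haveI : Module.FinitePresentation Γ((U : Scheme.{u}), W') Γ(A.restrict U.ι, W') :=
    FlatLib.finitePresentation_semilinear (A := Γ(X, U.ι ''ᵁ W')) (M := Γ(A, U.ι ''ᵁ W'))
      (U.ι.appIso W').hom.hom (U.ι.appIso W').commRingCatIsoToRingEquiv.surjective
      (A.restrictAppIso U.ι W').addCommGroupIsoToAddEquiv.symm
      fun r m => ConcreteCategory.congr_hom (Scheme.Modules.smul_restrictAppIso_inv U.ι A W' r) m
  haveI : Module.FinitePresentation Γ((U : Scheme.{u}), W') Γ((CohB1.tensorMod A M).restrict U.ι, W') :=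
    Module.FinitePresentation.of_equiv (LinearEquiv.ofBijective
      ({ toFun := e.inv.app W'
         map_add' := map_add _
         map_smul' := fun r m => Scheme.Modules.Hom.app_smul e.inv r m } :
          Γ(A.restrict U.ι, W') →ₗ[Γ((U : Scheme.{u}), W')] Γ((CohB1.tensorMod A M).restrict U.ι, W'))
      (ConcreteCategory.bijective_of_isIso (e.inv.app W')))
  exact FlatLib.finitePresentation_semilinear (A := Γ((U : Scheme.{u}), W'))
    (M := Γ((CohB1.tensorMod A M).restrict U.ι, W'))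
    (U.ι.appIso W').inv.hom (U.ι.appIso W').commRingCatIsoToRingEquiv.symm.surjective
    ((CohB1.tensorMod A M).restrictAppIso U.ι W').addCommGroupIsoToAddEquiv
    fun r m => Scheme.Modules.smul_restrictAppIso_hom_apply U.ι _ W' r m

set_option backward.isDefEq.respectTransparency false in
theorem isQCoh_of_isFP {M : X.Modules} (h : CohB1.IsFP M) : Coh.IsQCoh M := by
  haveI : SheafOfModules.IsFinitePresentation (R := X.ringCatSheaf) M := h
  exact (inferInstance : SheafOfModules.IsQuasicoherent (R := X.ringCatSheaf) M)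

theorem tensorPows_hyps (f : X ⟶ S) {F : X.Modules} (hF : CohB1.IsFP F) (hfl : FlatMod.IsFlatOver f F) :
    ∀ (t : ℕ) (L : Fin t → X.Modules) (_ : ∀ i, PicF.IsInvertible (L i)) (n : Fin t → ℕ),
      CohB1.IsFP (Curv2.tensorPows F t L n) ∧ FlatMod.IsFlatOver f (Curv2.tensorPows F t L n)
  | 0, _, _, _ => ⟨hF, hfl⟩
  | t + 1, L, hL, n => by
    obtain ⟨h1, h2⟩ := tensorPows_hyps f hF hfl t (fun i => L i.castSucc) (fun i => hL _) (fun i => n i.castSucc)
    haveI := isQCoh_of_isFP h1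
    exact ⟨isFP_tensor h1 (AmpleThLib.tensorPow_isInvertible (hL _) _),
      PnCohLib.isFlatOver_tensor f h2 (AmpleThLib.tensorPow_isInvertible (hL _) _)⟩

theorem ringKrullDim_fiber_le {R B : Type u} [CommRing R] [CommRing B] [Algebra R B] (p : Ideal R) [p.IsPrime]
    {n : ℕ} (π : MvPolynomial (Fin n) R →ₐ[R] B) (hπ : Function.Surjective π) :
    ringKrullDim (p.Fiber B) ≤ (n : ℕ) := by
  let K := p.ResidueField
  let φ : TensorProduct R K (MvPolynomial (Fin n) R) →ₐ[K] TensorProduct R K B :=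
    Algebra.TensorProduct.map (AlgHom.id K K) π
  have hφ : Function.Surjective φ := fun z => by
    induction z using TensorProduct.induction_on with
    | zero => exact ⟨0, map_zero φ⟩
    | tmul a b =>
      obtain ⟨m, rfl⟩ := hπ b
      exact ⟨a ⊗ₜ m, Algebra.TensorProduct.map_tmul ..⟩
    | add a b ha hb =>
      obtain ⟨a', rfl⟩ := ha
      obtain ⟨b', rfl⟩ := hb
      exact ⟨a' + b', map_add φ a' b'⟩
  let e := MvPolynomial.algebraTensorAlgEquiv (σ := Fin n) R K
  have h1 : ringKrullDim (TensorProduct R K B) ≤ ringKrullDim (TensorProduct R K (MvPolynomial (Fin n) R)) :=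
    ringKrullDim_le_of_surjective φ.toRingHom hφ
  rw [ringKrullDim_eq_of_ringEquiv e.toRingEquiv] at h1
  refine le_trans h1 ?_
  simp [MvPolynomial.ringKrullDim_of_isNoetherianRing, ringKrullDim_eq_zero_of_field]

theorem exists_fibre_dim_bound (f : X ⟶ S) [LocallyOfFiniteType f] [QuasiCompact f] {W : S.Opens}
    (hW : IsAffineOpen W) : ∃ D : ℕ, ∀ s ∈ W, topologicalKrullDim (f.fiber s) ≤ (D : ℕ) := by
  have hc : IsCompact ((f ⁻¹ᵁ W : X.Opens) : Set X) := QuasiCompact.isCompact_preimage _ W.2 hW.isCompact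
  have hex : ∀ x : (f ⁻¹ᵁ W : X.Opens), ∃ U : X.Opens, IsAffineOpen U ∧ x.1 ∈ U ∧ U ≤ f ⁻¹ᵁ W := fun x => by
    obtain ⟨_, ⟨U, hU, rfl⟩, hxU, hUV⟩ :=
      X.isBasis_affineOpens.exists_subset_of_mem_open x.2 (f ⁻¹ᵁ W).isOpen
    exact ⟨U, hU, hxU, hUV⟩
  choose U hU hxU hUW using hex
  obtain ⟨T, hT⟩ := hc.elim_finite_subcover (fun x => (U x : Set X)) (fun x => (U x).2)
    fun x hx => Set.mem_iUnion.mpr ⟨⟨x, hx⟩, hxU ⟨x, hx⟩⟩
  have hgen : ∀ x, ∃ n : ℕ, letI := (f.appLE W (U x) (hUW x)).hom.toAlgebra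
      ∃ π : MvPolynomial (Fin n) Γ(S, W) →ₐ[Γ(S, W)] Γ(X, U x), Function.Surjective π := fun x => by
    letI := (f.appLE W (U x) (hUW x)).hom.toAlgebra
    haveI : Algebra.FiniteType Γ(S, W) Γ(X, U x) := f.finiteType_appLE hW (hU x) (hUW x)
    obtain ⟨n, π, hπ⟩ := Algebra.FiniteType.iff_quotient_mvPolynomial''.mp ‹Algebra.FiniteType Γ(S, W) Γ(X, U x)›
    exact ⟨n, π, hπ⟩
  choose n hn using hgen
  refine ⟨T.sup n, fun s hs => FibDimLib.topologicalKrullDim_le_of_points fun z => ?_⟩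
  obtain ⟨x', hx', rfl⟩ : ∃ x' : X, ∃ h : f.base x' = s, (f.fiberHomeo s).symm ⟨x', h⟩ = z :=
    ⟨_, _, (f.fiberHomeo s).symm_apply_apply z⟩
  subst hx'
  obtain ⟨i, hiT, hi⟩ := Set.mem_iUnion₂.mp (hT (show x' ∈ f ⁻¹ᵁ W from hs))
  letI := (f.appLE W (U i) (hUW i)).hom.toAlgebra
  obtain ⟨e, Q, he, -, heQ⟩ := FibDimLib.exists_affine_fibre_embedding f x' hW (hU i) (hUW i) hi
  haveI := UOpenLib.lft_fiberToSpec f (f.base x')
  have hd := @FibDimLib.topologicalKrullDim_closure_of_isOpenEmbedding (S.residueField (f.base x')) _ _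
    (f.fiberToSpecResidueField (f.base x')) (UOpenLib.lft_fiberToSpec f (f.base x')) _ _ e he Q
  rw [heQ] at hd
  refine le_of_eq_of_le hd.symm ?_
  refine (topologicalKrullDim_subspace_le _ _).trans ?_
  rw [PrimeSpectrum.topologicalKrullDim_eq_ringKrullDim]
  obtain ⟨π, hπ⟩ := hn i
  exact (ringKrullDim_fiber_le _ π hπ).trans (by exact_mod_cast Finset.le_sup hiT)

theorem eq_of_mem_polyFun {r D : ℕ} {g₁ g₂ : (Fin r → ℕ) → ℚ} (h₁ : g₁ ∈ polyFun r (D + 1))
    (h₂ : g₂ ∈ polyFun r (D + 1)) (h : ∀ n : Fin r → Fin (D + 1), g₁ (fun i => n i) = g₂ (fun i => n i)) :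
    g₁ = g₂ := by
  classical
  obtain ⟨P, hP, hP'⟩ := exists_mvPolynomial (sub_mem h₁ h₂)
  suffices hP0 : P = 0 by
    funext n
    have := hP' n
    rw [hP0, map_zero, Pi.sub_apply, sub_eq_zero] at this
    exact this
  refine MvPolynomial.eq_zero_of_eval_zero_at_prod_finset P
    (fun _ => (Finset.range (D + 1)).image fun j : ℕ => (j : ℚ)) (fun i => ?_) fun x hx => ?_
  · rw [Finset.card_image_of_injective _ Nat.cast_injective, Finset.card_range]
    exact Nat.lt_succ_of_le ((MvPolynomial.degreeOf_le_totalDegree _ _).trans hP)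
  · have hx' : ∀ i, ∃ j : Fin (D + 1), (j : ℚ) = x i := fun i => by
      obtain ⟨j, hj, hji⟩ := Finset.mem_image.mp (hx i)
      exact ⟨⟨j, Finset.mem_range.mp hj⟩, hji⟩
    choose j hj using hx'
    have e := hP' (fun i => j i)
    rw [show (fun l => ((j l : ℕ) : ℚ)) = x from funext hj, Pi.sub_apply, h, sub_self] at e
    exact e.symm

/-- The Euler characteristics of all twists are locally constant. -/
theorem exists_nhd_euler_eq (f : X ⟶ S) [IsProper f] [LocallyOfFinitePresentation f]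
    {F : X.Modules} (hF : CohB1.IsFP F) (hfl : FlatMod.IsFlatOver f F) (t : ℕ) (L : Fin t → X.Modules)
    (hL : ∀ i, PicF.IsInvertible (L i)) (s : S) :
    ∃ U : S.Opens, s ∈ U ∧ ∀ s' : S, s' ∈ U → ∀ n : Fin t → ℕ,
      @Curv2.euler (S.residueField s') _ (f.fiber s') ⟨f.fiberToSpecResidueField s'⟩
          ((Scheme.Modules.pullback (f.fiberι s')).obj (Curv2.tensorPows F t L n)) =
        @Curv2.euler (S.residueField s) _ (f.fiber s) ⟨f.fiberToSpecResidueField s⟩
          ((Scheme.Modules.pullback (f.fiberι s)).obj (Curv2.tensorPows F t L n)) := by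
  haveI := isQCoh_of_isFP hF
  obtain ⟨_, ⟨W, hW, rfl⟩, hsW, -⟩ := S.isBasis_affineOpens.exists_subset_of_mem_open (Set.mem_univ s) isOpen_univ
  obtain ⟨D, hD⟩ := exists_fibre_dim_bound f hW
  let χ : (Fin t → ℕ) → S → ℤ := fun n s' => PerfAux.eulerChar f (Curv2.tensorPows F t L n) s'
  have hχ : ∀ (n : Fin t → ℕ) (s' : S),
      @Curv2.euler (S.residueField s') _ (f.fiber s') ⟨f.fiberToSpecResidueField s'⟩
          ((Scheme.Modules.pullback (f.fiberι s')).obj (Curv2.tensorPows F t L n)) = χ n s' := fun n s' => by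
    obtain ⟨h1, h2⟩ := tensorPows_hyps f hF hfl t L hL n
    refine (CohCmpLib.euler_bc h1 h2 (K := S.residueField s') (IsPullback.of_hasPullback f (S.fromSpecResidueField s'))
      (IsLocalRing.closedPoint _)).trans ?_
    exact congrArg (PerfAux.eulerChar f _) (Scheme.fromSpecResidueField_apply s' _)
  have hpoly : ∀ s' ∈ W, (fun n => (χ n s' : ℚ)) ∈ polyFun t (D + 1) := fun s' hs' => by
    letI : (f.fiber s').Over (Spec (CommRingCat.of (S.residueField s'))) := ⟨f.fiberToSpecResidueField s'⟩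
    haveI : IsProper (f.fiber s' ↘ Spec (CommRingCat.of (S.residueField s'))) :=
      inferInstanceAs (IsProper (pullback.snd f (S.fromSpecResidueField s')))
    haveI := CurvLib.isNoetherian (S.residueField s') (X := f.fiber s')
    let g := f.fiberι s'
    let W' : (Fin t → ℕ) → (f.fiber s').Modules := fun n =>
      (Scheme.Modules.pullback g).obj (Curv2.tensorPows (Coh.structureModule X) t L n)
    have hstep : ∀ (n : Fin t → ℕ) (i : Fin t),
        Nonempty (W' (Function.update n i (n i + 1)) ≅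
          CohB1.tensorMod ((Scheme.Modules.pullback g).obj (L i)) (W' n)) := fun n i => by
      obtain ⟨e⟩ := nonempty_tensorPows_step t L n i
      exact ⟨(Scheme.Modules.pullback g).mapIso e ≪≫ @asIso _ _ _ _ (KFlatLib.pullθ g _ _) (KFlatLib.isIso_pullθ g _ _)⟩
    have hFs : Coh.IsCoh ((Scheme.Modules.pullback g).obj F) :=
      haveI := isQCoh_of_isFP (RichLib.ModFlat.isFP_pullback g hF)
      ConsLib.isCoh_of_isFP (RichLib.ModFlat.isFP_pullback g hF)
    have hdim : topologicalKrullDim (CohB1.support ((Scheme.Modules.pullback g).obj F)) < ((D + 1 : ℕ) : WithBot ℕ∞) :=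
      lt_of_le_of_lt ((topologicalKrullDim_subspace_le _ _).trans (hD s' hs')) (by exact_mod_cast Nat.lt_succ_self D)
    have hm := hilbFun_mem (k := S.residueField s') (W := W')
      (fun n => AmpleDevLib.isInvertible_pb g (isInvertible_tensorPows t L hL n))
      (fun i => AmpleDevLib.isInvertible_pb g (hL i)) hstep (D + 1) _ hFs hdim
    convert hm using 1
    funext n
    obtain ⟨e⟩ := nonempty_tensorPows F t L n
    rw [← hχ n s', hilbFun]
    exact congrArg Int.cast (CurvLib.euler_congr ((Scheme.Modules.pullback g).mapIso e ≪≫ @asIso _ _ _ _ (KFlatLib.pullθ g _ _) (KFlatLib.isIso_pullθ g _ _)))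
  have hfin : ∀ m : Fin t → Fin (D + 1), ∃ U : S.Opens, s ∈ U ∧ ∀ s' ∈ U, χ (fun i => m i) s' = χ (fun i => m i) s :=
    fun m => by
      obtain ⟨h1, h2⟩ := tensorPows_hyps f hF hfl t L hL (fun i => m i)
      obtain ⟨O, hO, hsO, hc⟩ := (CohCmpLib.isLocallyConstant_eulerChar (f := f) h1 h2).exists_open s
      exact ⟨⟨O, hO⟩, hsO, hc⟩
  choose O hsO hO using hfin
  refine ⟨⟨(W : Set S) ∩ ⋂ m, (O m : Set S), W.2.inter (isOpen_iInter_of_finite fun m => (O m).2)⟩,
    ⟨hsW, Set.mem_iInter.mpr hsO⟩, fun s' hs' n => ?_⟩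
  rw [hχ, hχ]
  have := congrFun (eq_of_mem_polyFun (hpoly s' hs'.1) (hpoly s hsW)
    fun m => congrArg Int.cast (hO m s' (Set.mem_iInter.mp hs'.2 m))) n
  exact_mod_cast this

end HilbLCLib
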